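import Groth.Agent.TorBal.Natural
import Mathlib.Algebra.Homology.HomologySequence
import Mathlib.Algebra.Homology.HomologicalComplexAbelian
import Mathlib.RingTheory.Flat.Basic

/-!
The long exact sequence of `Tor` in the second variable.
-/

set_option autoImplicit false

universe u

open CategoryTheory Limits HomologicalComplex MonoidalCategory

namespace Groth.Agent.TorBal

variable {R : Type u} [CommRing R] (M : ModuleCat.{u} R)

/-- `N ↦ N ⊗ P_M` -/
noncomputable def resFunctor : ModuleCat.{u} R ⥤ ChainComplex (ModuleCat.{u} R) ℕ where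
  obj N := (((tensoringLeft (ModuleCat.{u} R)).obj N).mapHomologicalComplex (ComplexShape.down ℕ)).obj
    (projectiveResolution M).complex
  map f := (NatTrans.mapHomologicalComplex ((tensoringLeft (ModuleCat.{u} R)).map f) (ComplexShape.down ℕ)).app
    (projectiveResolution M).complex
  map_id N := by
    ext i : 1
    simp
  map_comp f g := by
    ext i : 1
    simp

/-- `Tor` computed by resolving the first variable -/
noncomputable def torResIso (n : ℕ) : (CategoryTheory.Tor (ModuleCat.{u} R) n).obj M ≅
    resFunctor M ⋙ homologyFunctor _ (ComplexShape.down ℕ) n :=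
  (torBalance n).app M ≪≫ NatIso.ofComponents
    (fun N => (projectiveResolution M).isoLeftDerivedObj ((tensoringLeft (ModuleCat.{u} R)).obj N) n)
    fun {N N'} f => by
      show (NatTrans.leftDerived ((tensoringLeft (ModuleCat.{u} R)).map f) n).app M ≫ _ = _
      rw [(projectiveResolution M).leftDerived_app_eq, Category.assoc, Category.assoc]
      erw [Iso.inv_hom_id, Category.comp_id]
      rfl

instance : (resFunctor M).Additive where
  map_add {X Y f g} := by
    ext i : 1
    show (f + g) ▷ _ = f ▷ _ + g ▷ _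
    simp
    rfl

theorem shortExact_res {S : ShortComplex (ModuleCat.{u} R)} (hS : S.ShortExact) :
    (S.map (resFunctor M)).ShortExact := by
  refine HomologicalComplex.shortExact_of_degreewise_shortExact _ fun i => ?_
  haveI : Module.Projective R ((projectiveResolution M).complex.X i) :=
    (IsProjective.iff_projective ((projectiveResolution M).complex.X i)).2 ((projectiveResolution M).projective i)
  haveI : Module.Flat R ((projectiveResolution M).complex.X i) := Module.Flat.of_projective
  refine ModuleCat.shortComplex_shortExact _ ?_ ?_ ?_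
  · exact rTensor_exact ((projectiveResolution M).complex.X i) ((ShortComplex.ShortExact.moduleCat_exact_iff_function_exact S).1 hS.exact)
      hS.moduleCat_surjective_g
  · exact Module.Flat.rTensor_preserves_injective_linearMap _ hS.moduleCat_injective_f
  · exact LinearMap.rTensor_surjective _ hS.moduleCat_surjective_g

section abstractLemmas

variable {C : Type*} [Category C] {D : Type*} [Category D] [HasZeroMorphisms D] {F G F' G' : C ⥤ D}
  {X Y Z W : C}

theorem comp_zero_of_iso (e : F ≅ G) (f : X ⟶ Y) (g : Y ⟶ Z) (h : G.map f ≫ G.map g = 0) : F.map f ≫ F.map g = 0 := by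
  rw [← cancel_mono (e.hom.app Z), Category.assoc, e.hom.naturality g, ← Category.assoc, e.hom.naturality f,
    Category.assoc, h, comp_zero, zero_comp]

theorem comp_conj_zero_of_iso (e : F ≅ G) (e' : F' ≅ G') (g : X ⟶ Y) (d : G'.obj Y ⟶ G.obj W) (h : G'.map g ≫ d = 0) :
    F'.map g ≫ e'.hom.app Y ≫ d ≫ e.inv.app W = 0 := by
  rw [← Category.assoc, e'.hom.naturality, Category.assoc, ← Category.assoc (G'.map g), h, zero_comp, comp_zero]

theorem conj_comp_zero_of_iso (e : F ≅ G) (e' : F' ≅ G') (f : W ⟶ X) (d : G'.obj Y ⟶ G.obj W) (h : d ≫ G.map f = 0) :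
    (e'.hom.app Y ≫ d ≫ e.inv.app W) ≫ F.map f = 0 := by
  rw [Category.assoc, Category.assoc, ← e.inv.naturality, ← Category.assoc d, h, zero_comp, comp_zero]

omit [HasZeroMorphisms D] in
theorem conj_comp_hom (e : F ≅ G) (e' : F' ≅ G') (d : G'.obj Y ⟶ G.obj W) :
    (e'.hom.app Y ≫ d ≫ e.inv.app W) ≫ e.hom.app W = e'.hom.app Y ≫ d := by
  simp

omit [HasZeroMorphisms D] in
theorem epi_map_of_iso (e : F ≅ G) (g : X ⟶ Y) (h : Epi (G.map g)) : Epi (F.map g) := by
  have : F.map g = e.hom.app X ≫ G.map g ≫ e.inv.app Y := by simp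
  rw [this]
  infer_instance

end abstractLemmas

variable {S : ShortComplex (ModuleCat.{u} R)} (hS : S.ShortExact) (n : ℕ)

/-- the connecting map -/
noncomputable def torδ : ((CategoryTheory.Tor (ModuleCat.{u} R) (n + 1)).obj M).obj S.X₃ ⟶
    ((CategoryTheory.Tor (ModuleCat.{u} R) n).obj M).obj S.X₁ :=
  (torResIso M (n + 1)).hom.app S.X₃ ≫ (shortExact_res M hS).δ (n + 1) n rfl ≫ (torResIso M n).inv.app S.X₁

theorem tor_map_comp : ((CategoryTheory.Tor (ModuleCat.{u} R) n).obj M).map S.f ≫
    ((CategoryTheory.Tor (ModuleCat.{u} R) n).obj M).map S.g = 0 :=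
  comp_zero_of_iso (torResIso M n) S.f S.g
    ((Functor.map_comp _ _ _).symm.trans ((congrArg _ S.zero).trans (Functor.map_zero _ _ _)))

include hS in
theorem tor_exact₂ : (ShortComplex.mk _ _ (tor_map_comp M (S := S) n)).Exact :=
  (ShortComplex.exact_iff_of_iso (ShortComplex.isoMk ((torResIso M n).app _) ((torResIso M n).app _)
    ((torResIso M n).app _) ((torResIso M n).hom.naturality S.f).symm ((torResIso M n).hom.naturality S.g).symm)).2
    ((shortExact_res M hS).homology_exact₂ n)

theorem torδ_hom : torδ M hS n ≫ (torResIso M n).hom.app S.X₁ =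
    (torResIso M (n + 1)).hom.app S.X₃ ≫ (shortExact_res M hS).δ (n + 1) n rfl :=
  conj_comp_hom (torResIso M n) (torResIso M (n + 1)) _

theorem map_g_torδ : ((CategoryTheory.Tor (ModuleCat.{u} R) (n + 1)).obj M).map S.g ≫ torδ M hS n = 0 :=
  comp_conj_zero_of_iso (torResIso M n) (torResIso M (n + 1)) S.g _ ((shortExact_res M hS).comp_δ (n + 1) n rfl)

theorem torδ_map_f : torδ M hS n ≫ ((CategoryTheory.Tor (ModuleCat.{u} R) n).obj M).map S.f = 0 :=
  conj_comp_zero_of_iso (torResIso M n) (torResIso M (n + 1)) S.f _ ((shortExact_res M hS).δ_comp (n + 1) n rfl)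

theorem tor_exact₃ : (ShortComplex.mk _ _ (map_g_torδ M hS n)).Exact :=
  (ShortComplex.exact_iff_of_iso (ShortComplex.isoMk ((torResIso M (n + 1)).app _) ((torResIso M (n + 1)).app _)
    ((torResIso M n).app _) ((torResIso M (n + 1)).hom.naturality S.g).symm (torδ_hom M hS n).symm)).2
    ((shortExact_res M hS).homology_exact₃ (n + 1) n rfl)

theorem tor_exact₁ : (ShortComplex.mk _ _ (torδ_map_f M hS n)).Exact :=
  (ShortComplex.exact_iff_of_iso (ShortComplex.isoMk ((torResIso M (n + 1)).app _) ((torResIso M n).app _)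
    ((torResIso M n).app _) (torδ_hom M hS n).symm ((torResIso M n).hom.naturality S.f).symm)).2
    ((shortExact_res M hS).homology_exact₁ (n + 1) n rfl)

theorem epi_homologyMap_zero {V : Type*} [Category V] [Abelian V] {K L : ChainComplex V ℕ} (φ : K ⟶ L)
    [Epi (φ.f 0)] : Epi (homologyMap φ 0) := by
  haveI : Epi (opcyclesMap φ 0) := by
    haveI : Epi (K.pOpcycles 0 ≫ opcyclesMap φ 0) := by rw [p_opcyclesMap]; exact epi_comp _ _
    exact epi_of_epi (K.pOpcycles 0) _
  haveI := K.isIso_homologyι 0 _ rfl (K.shape _ _ (by simp))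
  haveI := L.isIso_homologyι 0 _ rfl (L.shape _ _ (by simp))
  have h : homologyMap φ 0 = K.homologyι 0 ≫ opcyclesMap φ 0 ≫ inv (L.homologyι 0) := by
    rw [← Category.assoc, IsIso.eq_comp_inv, homologyι_naturality]
  rw [h]
  infer_instance

include hS in
theorem tor_zero_epi : Epi (((CategoryTheory.Tor (ModuleCat.{u} R) 0).obj M).map S.g) := by
  haveI : Epi ((S.map (resFunctor M)).g.f 0) :=
    ((shortExact_res M hS).map_of_exact (eval _ (ComplexShape.down ℕ) 0)).epi_g
  exact epi_map_of_iso (torResIso M 0) S.g (epi_homologyMap_zero (S.map (resFunctor M)).g)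

end Groth.Agent.TorBal
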