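import Groth.Agent.TorBal.Balance

/-!
Balance of `Tor` as a natural isomorphism.
-/

set_option autoImplicit false

universe u

open CategoryTheory Limits HomologicalComplex MonoidalCategory Groth.Agent.KFlatLib

namespace Groth.Agent.TorBal

variable {R : Type u} [CommRing R]

/-- a chosen lift -/
noncomputable def liftHom {M M' : ModuleCat.{u} R} (f : M ⟶ M') :
    ProjectiveResolution.Hom (projectiveResolution M) (projectiveResolution M') f where
  hom := ProjectiveResolution.lift f _ _
  hom_f_zero_comp_π_f_zero := (ProjectiveResolution.lift_commutes_zero f _ _).trans (by simp)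

/-- `Tor M N ≅ Hₙ (P_M ⊗ N)` -/
noncomputable def torBalIso (n : ℕ) (M N : ModuleCat.{u} R) :
    ((CategoryTheory.Tor (ModuleCat.{u} R) n).obj M).obj N ≅
      ((CategoryTheory.Tor (ModuleCat.{u} R) n).obj N).obj M :=
  (projectiveResolution N).isoLeftDerivedObj ((tensoringLeft (ModuleCat.{u} R)).obj M) n ≪≫
    midIso (projectiveResolution M) (projectiveResolution N) n ≪≫
    (homologyFunctor _ (ComplexShape.down ℕ) n).mapIso ((NatIso.mapHomologicalComplex
      (BraidedCategory.tensorLeftIsoTensorRight N).symm (ComplexShape.down ℕ)).app (projectiveResolution M).complex) ≪≫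
    ((projectiveResolution M).isoLeftDerivedObj ((tensoringLeft (ModuleCat.{u} R)).obj N) n).symm

theorem tor_map {n : ℕ} {M M' N N' : ModuleCat.{u} R} {Q : ProjectiveResolution N} {Q' : ProjectiveResolution N'}
    (f : M ⟶ M') {g : N ⟶ N'} (b : ProjectiveResolution.Hom Q Q' g) :
    (((CategoryTheory.Tor (ModuleCat.{u} R) n).map f).app N ≫ ((CategoryTheory.Tor (ModuleCat.{u} R) n).obj M').map g) ≫
        (Q'.isoLeftDerivedObj ((tensoringLeft (ModuleCat.{u} R)).obj M') n).hom =
      (Q.isoLeftDerivedObj ((tensoringLeft (ModuleCat.{u} R)).obj M) n).hom ≫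
        homologyMap ((NatTrans.mapHomologicalComplex ((TM R).map f) (ComplexShape.down ℕ)).app Q.complex ≫
          (((TM R).obj M').mapHomologicalComplex (ComplexShape.down ℕ)).map b.hom) n := by
  have h1 := ProjectiveResolution.isoLeftDerivedObj_hom_naturality g Q Q' b.hom
    (by simpa using b.hom_f_zero_comp_π_f_zero) ((tensoringLeft (ModuleCat.{u} R)).obj M') n
  have h2 : ((CategoryTheory.Tor (ModuleCat.{u} R) n).map f).app N ≫
      (Q.isoLeftDerivedObj ((tensoringLeft (ModuleCat.{u} R)).obj M') n).hom =
      (Q.isoLeftDerivedObj ((tensoringLeft (ModuleCat.{u} R)).obj M) n).hom ≫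
        homologyMap ((NatTrans.mapHomologicalComplex ((TM R).map f) (ComplexShape.down ℕ)).app Q.complex) n := by
    show (NatTrans.leftDerived ((tensoringLeft (ModuleCat.{u} R)).map f) n).app N ≫ _ = _
    rw [Q.leftDerived_app_eq, Category.assoc, Category.assoc]
    erw [Iso.inv_hom_id, Category.comp_id]
    rfl
  rw [homologyMap_comp, Category.assoc]
  exact (congrArg (((CategoryTheory.Tor (ModuleCat.{u} R) n).map f).app N ≫ ·) h1).trans
    (((Category.assoc _ _ _).symm.trans (congrArg (· ≫ _) h2)).trans (Category.assoc _ _ _))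

theorem torBalIso_natural (n : ℕ) {M M' N N' : ModuleCat.{u} R} (f : M ⟶ M') (g : N ⟶ N') :
    (((CategoryTheory.Tor (ModuleCat.{u} R) n).map f).app N ≫ ((CategoryTheory.Tor (ModuleCat.{u} R) n).obj M').map g) ≫
        (torBalIso n M' N').hom =
      (torBalIso n M N).hom ≫ (((CategoryTheory.Tor (ModuleCat.{u} R) n).map g).app M ≫
        ((CategoryTheory.Tor (ModuleCat.{u} R) n).obj N').map f) := by
  have s1 := tor_map (n := n) (Q := projectiveResolution N) (Q' := projectiveResolution N') f (liftHom g)
  have s2 := midIso_natural (liftHom f) (liftHom g) n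
  let β : ∀ X : ModuleCat.{u} R, (((TM R).flip.obj X).mapHomologicalComplex (ComplexShape.down ℕ)) ⟶
      (((TM R).obj X).mapHomologicalComplex (ComplexShape.down ℕ)) := fun X =>
    NatTrans.mapHomologicalComplex (BraidedCategory.tensorLeftIsoTensorRight X).inv (ComplexShape.down ℕ)
  have s3 : homologyMap ((NatTrans.mapHomologicalComplex ((TM R).flip.map g) (ComplexShape.down ℕ)).app
        (projectiveResolution M).complex ≫
        (((TM R).flip.obj N').mapHomologicalComplex (ComplexShape.down ℕ)).map (liftHom f).hom) n ≫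
        homologyMap ((β N').app (projectiveResolution M').complex) n =
      homologyMap ((β N).app (projectiveResolution M).complex) n ≫
        homologyMap ((NatTrans.mapHomologicalComplex ((TM R).map g) (ComplexShape.down ℕ)).app
          (projectiveResolution M).complex ≫
          (((TM R).obj N').mapHomologicalComplex (ComplexShape.down ℕ)).map (liftHom f).hom) n := by
    rw [← homologyMap_comp, ← homologyMap_comp]
    congr 1
    ext i : 1
    simp [β, BraidedCategory.tensorLeftIsoTensorRight]
    exact BraidedCategory.braiding_inv_naturality_right_assoc _ g _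
  have s4 := square_inv _ _ _ _ (tor_map (n := n) (Q := projectiveResolution M) (Q' := projectiveResolution M') g (liftHom f))
  exact square_comp _ _ _ _ _ s1 (square_comp _ _ _ _ _ s2 (square_comp _ _ _ _ _ s3 s4))

/-- `Tor` is balanced -/
noncomputable def torBalance (n : ℕ) :
    CategoryTheory.Tor (ModuleCat.{u} R) n ≅ (CategoryTheory.Tor (ModuleCat.{u} R) n).flip :=
  NatIso.ofComponents (fun M => NatIso.ofComponents (fun N => torBalIso n M N) fun {N N'} g => by
    have h := torBalIso_natural n (𝟙 M) g
    rw [show ((CategoryTheory.Tor (ModuleCat.{u} R) n).map (𝟙 M)).app N = 𝟙 _ by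
      rw [(CategoryTheory.Tor (ModuleCat.{u} R) n).map_id]; rfl,
      ((CategoryTheory.Tor (ModuleCat.{u} R) n).obj N').map_id] at h
    erw [Category.id_comp, Category.comp_id] at h
    exact h) fun {M M'} f => by
      ext N : 2
      have h := torBalIso_natural n f (𝟙 N)
      rw [show ((CategoryTheory.Tor (ModuleCat.{u} R) n).map (𝟙 N)).app M = 𝟙 _ by
        rw [(CategoryTheory.Tor (ModuleCat.{u} R) n).map_id]; rfl,
        ((CategoryTheory.Tor (ModuleCat.{u} R) n).obj M').map_id] at h
      erw [Category.comp_id, Category.id_comp] at h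
      exact h

end Groth.Agent.TorBal
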