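import Groth.Agent.TorBal.Side
import Groth.Agent.KFlatLib.Bounded
import Groth.Agent.KFlatLib.DRing
import Mathlib.CategoryTheory.Monoidal.Tor
import Mathlib.CategoryTheory.Abelian.Projective.Extend
import Mathlib.Algebra.Category.ModuleCat.Projective
import Mathlib.Algebra.Module.Projective

/-!
Balance of `Tor` over a commutative ring.
-/

set_option autoImplicit false

universe u

open CategoryTheory Limits HomologicalComplex MonoidalCategory Groth.Agent.KFlatLib

namespace Groth.Agent.TorBal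

variable {R : Type u} [CommRing R]

theorem flat_cochainComplex {M : ModuleCat.{u} R} (P : ProjectiveResolution M) (i : ℤ) :
    Module.Flat R (P.cochainComplex.X i) := by
  have hp : Projective (P.cochainComplex.X i) := inferInstance
  haveI : Module.Projective R (P.cochainComplex.X i) :=
    (IsProjective.iff_projective (P.cochainComplex.X i)).2 hp
  exact Module.Flat.of_projective

theorem isKFlat_res {M : ModuleCat.{u} R} (P : ProjectiveResolution M) : IsKFlat (TM R) P.cochainComplex :=
  isKFlat_of_bounded_above (TM R) P.cochainComplex 0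
    (fun i hi => CochainComplex.isZero_of_isStrictlyLE _ 0 i hi)
    (fun i => (tflat_of_flat (flat_cochainComplex P i)).2)

theorem isKFlat_flip_res {M : ModuleCat.{u} R} (P : ProjectiveResolution M) :
    IsKFlat (TM R).flip P.cochainComplex :=
  isKFlat_of_bounded_above (TM R).flip P.cochainComplex 0
    (fun i hi => CochainComplex.isZero_of_isStrictlyLE _ 0 i hi)
    (fun i => (tflat_of_flat (flat_cochainComplex P i)).1)

/-- the map `Tot (P_M ⊗ P_N) → Tot (M ⊗ P_N)` on homology -/
noncomputable abbrev leftMap (T : ModuleCat.{u} R ⥤ ModuleCat.{u} R ⥤ ModuleCat.{u} R) [T.Additive]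
    [∀ X, (T.obj X).Additive]
    [∀ K L : CochainComplex (ModuleCat.{u} R) ℤ, HomologicalComplex.HasMapBifunctor K L T (ComplexShape.up ℤ)]
    {M N : ModuleCat.{u} R} (P : ProjectiveResolution M) (Q : ProjectiveResolution N) (i : ℤ) :
    ((Φ T P.cochainComplex).obj Q.cochainComplex).homology i ⟶
      ((Φ T (S₀ M)).obj Q.cochainComplex).homology i :=
  homologyMap (mapBifunctorMap P.π' (𝟙 Q.cochainComplex) T (ComplexShape.up ℤ)) i

theorem isIso_leftMap {M N : ModuleCat.{u} R} (P : ProjectiveResolution M) (Q : ProjectiveResolution N) (i : ℤ) :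
    IsIso (leftMap (TM R) P Q i) := by
  have h := quasiIso_left (TM R) (isKFlat_res Q) P.π'
  exact (quasiIsoAt_iff_isIso_homologyMap _ i).1 (h.quasiIsoAt i)

theorem isIso_leftMap_flip {M N : ModuleCat.{u} R} (P : ProjectiveResolution M) (Q : ProjectiveResolution N) (i : ℤ) :
    IsIso (leftMap (TM R).flip P Q i) := by
  have h := quasiIso_left (TM R).flip (isKFlat_flip_res Q) P.π'
  exact (quasiIsoAt_iff_isIso_homologyMap _ i).1 (h.quasiIsoAt i)

/-- the flip on homology -/
noncomputable def flipH (K L : CochainComplex (ModuleCat.{u} R) ℤ) (i : ℤ) :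
    ((Φ (TM R).flip K).obj L).homology i ≅ ((Φ (TM R) L).obj K).homology i :=
  (homologyFunctor _ (ComplexShape.up ℤ) i).mapIso (ΦFlip (TM R) K L)

theorem flipH_natural {K K' L L' : CochainComplex (ModuleCat.{u} R) ℤ} (a : K ⟶ K') (b : L ⟶ L') (i : ℤ) :
    homologyMap (mapBifunctorMap a b (TM R).flip (ComplexShape.up ℤ)) i ≫ (flipH K' L' i).hom =
      (flipH K L i).hom ≫ homologyMap (mapBifunctorMap b a (TM R) (ComplexShape.up ℤ)) i := by
  show homologyMap _ i ≫ homologyMap _ i = homologyMap _ i ≫ homologyMap _ i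
  rw [← homologyMap_comp, ← homologyMap_comp]
  exact congrArg (fun t => homologyMap t i) (mapBifunctorFlipIso_hom_naturality b a (TM R) (ComplexShape.up ℤ))

theorem mapBifunctorMap_comp' (T : ModuleCat.{u} R ⥤ ModuleCat.{u} R ⥤ ModuleCat.{u} R) [T.Additive]
    [∀ X, (T.obj X).Additive]
    [∀ K L : CochainComplex (ModuleCat.{u} R) ℤ, HomologicalComplex.HasMapBifunctor K L T (ComplexShape.up ℤ)]
    {K K' K'' L L' L'' : CochainComplex (ModuleCat.{u} R) ℤ} (a : K ⟶ K') (a' : K' ⟶ K'') (b : L ⟶ L') (b' : L' ⟶ L'') :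
    mapBifunctorMap (a ≫ a') (b ≫ b') T (ComplexShape.up ℤ) =
      mapBifunctorMap a b T (ComplexShape.up ℤ) ≫ mapBifunctorMap a' b' T (ComplexShape.up ℤ) := by
  ext n : 1
  refine HomologicalComplex.mapBifunctor.hom_ext fun p q h => ?_
  simp

theorem leftMap_natural (T : ModuleCat.{u} R ⥤ ModuleCat.{u} R ⥤ ModuleCat.{u} R) [T.Additive]
    [∀ X, (T.obj X).Additive]
    [∀ K L : CochainComplex (ModuleCat.{u} R) ℤ, HomologicalComplex.HasMapBifunctor K L T (ComplexShape.up ℤ)]
    {M M' N N' : ModuleCat.{u} R} {P : ProjectiveResolution M} {P' : ProjectiveResolution M'}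
    {Q : ProjectiveResolution N} {Q' : ProjectiveResolution N'}
    {f : M ⟶ M'} {g : N ⟶ N'} (a : ProjectiveResolution.Hom P P' f) (b : ProjectiveResolution.Hom Q Q' g) (i : ℤ) :
    homologyMap (mapBifunctorMap a.hom' b.hom' T (ComplexShape.up ℤ)) i ≫ leftMap T P' Q' i =
      leftMap T P Q i ≫
        homologyMap (mapBifunctorMap ((CochainComplex.singleFunctor _ 0).map f) b.hom' T (ComplexShape.up ℤ)) i := by
  show homologyMap _ i ≫ homologyMap _ i = homologyMap _ i ≫ homologyMap _ i
  rw [← homologyMap_comp, ← homologyMap_comp, ← mapBifunctorMap_comp', ← mapBifunctorMap_comp',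
    a.hom'_comp_π', Category.comp_id, Category.id_comp]

theorem square_inv {C : Type*} [Category C] {a b a' b' : C} (e : a ≅ b) (e' : a' ≅ b') (u : a ⟶ a') (v : b ⟶ b')
    (h : u ≫ e'.hom = e.hom ≫ v) : v ≫ e'.inv = e.inv ≫ u := by
  rw [← cancel_epi e.hom, ← reassoc_of% h, Iso.hom_inv_id, Category.comp_id, Iso.hom_inv_id_assoc]

theorem square_comp {C : Type*} [Category C] {a b c a' b' c' : C} {x : a ⟶ b} {x' : a' ⟶ b'} (y : b ⟶ c) (y' : b' ⟶ c')
    (u : a ⟶ a') (v : b ⟶ b') (w : c ⟶ c') (h₁ : u ≫ x' = x ≫ v) (h₂ : v ≫ y' = y ≫ w) :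
    u ≫ x' ≫ y' = (x ≫ y) ≫ w := by
  rw [reassoc_of% h₁, h₂, Category.assoc]

/-- the comparison of both ways to compute `Tor` on a pair of resolutions -/
noncomputable def midIso {M N : ModuleCat.{u} R} (P : ProjectiveResolution M) (Q : ProjectiveResolution N) (n : ℕ) :
    ((((TM R).obj M).mapHomologicalComplex (ComplexShape.down ℕ)).obj Q.complex).homology n ≅
      ((((TM R).flip.obj N).mapHomologicalComplex (ComplexShape.down ℕ)).obj P.complex).homology n :=
  sideIso (TM R) M Q.complex n ≪≫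
    (@asIso _ _ _ _ _ (isIso_leftMap P Q (-(n : ℤ)))).symm ≪≫
    (flipH Q.cochainComplex P.cochainComplex (-(n : ℤ))).symm ≪≫
    @asIso _ _ _ _ _ (isIso_leftMap_flip Q P (-(n : ℤ))) ≪≫
    (sideIso (TM R).flip N P.complex n).symm

theorem midIso_natural {M M' N N' : ModuleCat.{u} R} {P : ProjectiveResolution M} {P' : ProjectiveResolution M'}
    {Q : ProjectiveResolution N} {Q' : ProjectiveResolution N'}
    {f : M ⟶ M'} {g : N ⟶ N'} (a : ProjectiveResolution.Hom P P' f) (b : ProjectiveResolution.Hom Q Q' g) (n : ℕ) :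
    homologyMap ((NatTrans.mapHomologicalComplex ((TM R).map f) (ComplexShape.down ℕ)).app Q.complex ≫
        (((TM R).obj M').mapHomologicalComplex (ComplexShape.down ℕ)).map b.hom) n ≫ (midIso P' Q' n).hom =
      (midIso P Q n).hom ≫
        homologyMap ((NatTrans.mapHomologicalComplex ((TM R).flip.map g) (ComplexShape.down ℕ)).app P.complex ≫
          (((TM R).flip.obj N').mapHomologicalComplex (ComplexShape.down ℕ)).map a.hom) n := by
  have s1 := sideIso_natural (TM R) f b.hom n
  have s2 : homologyMap (mapBifunctorMap ((CochainComplex.singleFunctor _ 0).map f) b.hom' (TM R) (ComplexShape.up ℤ)) (-(n : ℤ)) ≫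
      (@asIso _ _ _ _ _ (isIso_leftMap P' Q' (-(n : ℤ)))).inv = (@asIso _ _ _ _ _ (isIso_leftMap P Q (-(n : ℤ)))).inv ≫
        homologyMap (mapBifunctorMap a.hom' b.hom' (TM R) (ComplexShape.up ℤ)) (-(n : ℤ)) :=
    square_inv _ _ _ _ (leftMap_natural (TM R) a b (-(n : ℤ)))
  have s3 := square_inv _ _ _ _ (flipH_natural b.hom' a.hom' (-(n : ℤ)))
  have s4 := leftMap_natural (TM R).flip b a (-(n : ℤ))
  have s5 := square_inv _ _ _ _ (sideIso_natural (TM R).flip g a.hom n)
  exact square_comp _ _ _ _ _ s1 (square_comp _ _ _ _ _ s2 (square_comp _ _ _ _ _ s3 (square_comp _ _ _ _ _ s4 s5)))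

end Groth.Agent.TorBal
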