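import Groth.Agent.KFlatLib.Basic
import Mathlib.Algebra.Homology.Embedding.ExtendHomology
import Mathlib.Algebra.Homology.Embedding.Basic

/-!
One side of the balance of derived bifunctors: `M ⊗ P` as a total complex.
-/

set_option autoImplicit false

universe v u

open CategoryTheory Limits HomologicalComplex Groth.Agent.KFlatLib

namespace Groth.Agent.TorBal

variable {A : Type u} [Category.{v} A] [Abelian A]

/-- `F (X o) ≅ (F X) o` for the extension by zero -/
noncomputable def mapDownXIso (F : A ⥤ A) [F.Additive] (K : ChainComplex A ℕ) :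
    ∀ o : Option ℕ, F.obj (extend.X K o) ≅
      extend.X ((F.mapHomologicalComplex (ComplexShape.down ℕ)).obj K) o
  | some k => Iso.refl (F.obj (K.X k))
  | none => (F.map_isZero (isZero_zero A)).iso (isZero_zero A)

theorem mapDownXIso_d (F : A ⥤ A) [F.Additive] (K : ChainComplex A ℕ) : ∀ o o' : Option ℕ,
    (mapDownXIso F K o).hom ≫ extend.d ((F.mapHomologicalComplex (ComplexShape.down ℕ)).obj K) o o' =
    F.map (extend.d K o o') ≫ (mapDownXIso F K o').hom
  | some i, some j => (Category.id_comp _).trans (Category.comp_id _).symm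
  | none, _ => (F.map_isZero (isZero_zero A)).eq_of_src _ _
  | some _, none => (isZero_zero A).eq_of_tgt _ _

theorem mapDownXIso_natural (F : A ⥤ A) [F.Additive] {K L : ChainComplex A ℕ} (f : K ⟶ L) : ∀ o : Option ℕ,
    F.map (extend.mapX f o) ≫ (mapDownXIso F L o).hom =
      (mapDownXIso F K o).hom ≫ extend.mapX ((F.mapHomologicalComplex (ComplexShape.down ℕ)).map f) o
  | some _ => (Category.comp_id _).trans (Category.id_comp _).symm
  | none => (isZero_zero A).eq_of_tgt _ _

theorem mapDownXIso_nat {F G : A ⥤ A} [F.Additive] [G.Additive] (η : F ⟶ G) (K : ChainComplex A ℕ) :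
    ∀ o : Option ℕ, η.app (extend.X K o) ≫ (mapDownXIso G K o).hom =
      (mapDownXIso F K o).hom ≫ extend.mapX ((NatTrans.mapHomologicalComplex η (ComplexShape.down ℕ)).app K) o
  | some _ => (Category.comp_id _).trans (Category.id_comp _).symm
  | none => (isZero_zero A).eq_of_tgt _ _

/-- functors commute with extension by zero -/
noncomputable def mapDownIso (F : A ⥤ A) [F.Additive] (K : ChainComplex A ℕ) :
    (F.mapHomologicalComplex (ComplexShape.up ℤ)).obj (K.extend ComplexShape.embeddingDownNat) ≅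
      ((F.mapHomologicalComplex (ComplexShape.down ℕ)).obj K).extend ComplexShape.embeddingDownNat :=
  HomologicalComplex.Hom.isoOfComponents (fun _ => mapDownXIso F K _) (fun _ _ _ => mapDownXIso_d F K _ _)

variable (T : A ⥤ A ⥤ A) [T.Additive] [∀ X, (T.obj X).Additive]
  [∀ K L : CochainComplex A ℤ, HomologicalComplex.HasMapBifunctor K L T (ComplexShape.up ℤ)]

/-- the single complex in degree zero -/
noncomputable abbrev S₀ (M : A) : CochainComplex A ℤ := (CochainComplex.singleFunctor A 0).obj M

/-- the component of `singleIso` -/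
noncomputable def singleComp (M : A) (K : CochainComplex A ℤ) (m : ℤ) :
    (T.obj M).obj (K.X m) ⟶ ((Φ T (S₀ M)).obj K).X m :=
  (T.map (singleObjXSelf (ComplexShape.up ℤ) 0 M).inv).app (K.X m) ≫ ιT T (S₀ M) K 0 m m (zero_add m)

theorem isIso_singleComp (M : A) (K : CochainComplex A ℤ) (m : ℤ) : IsIso (singleComp T M K m) := by
  have hz : ∀ i q, i ≠ 0 → IsZero ((T.obj ((S₀ M).X i)).obj (K.X q)) := fun i q h =>
    (Functor.map_isZero T (isZero_single_obj_X (ComplexShape.up ℤ) 0 M i h)).obj _
  haveI : IsIso (ιT T (S₀ M) K 0 m m (zero_add m)) := by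
    refine ⟨HomologicalComplex.mapBifunctorDesc (K₁ := S₀ M) (K₂ := K) (F := T) (fun p i e =>
      if hp : p = 0 then eqToHom (by subst hp; rw [show i = m by change 0 + i = m at e; omega]) else 0), ?_, ?_⟩
    · exact (HomologicalComplex.ι_mapBifunctorDesc _ 0 m (zero_add m)).trans (by simp)
    · refine ιT_hom_ext T fun p i e => ?_
      rw [← Category.assoc]
      refine (congrArg (· ≫ _) (HomologicalComplex.ι_mapBifunctorDesc _ p i e)).trans ?_
      by_cases hp : p = 0
      · subst hp
        obtain rfl : i = m := by omega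
        simp
      · exact (hz p i hp).eq_of_src _ _
  exact @IsIso.comp_isIso _ _ _ _ _ ((T.map (singleObjXSelf (ComplexShape.up ℤ) 0 M).inv).app (K.X m))
    (ιT T (S₀ M) K 0 m m (zero_add m)) inferInstance this

/-- `M ⊗ K` as a total complex -/
noncomputable def singleIso (M : A) (K : CochainComplex A ℤ) :
    ((T.obj M).mapHomologicalComplex (ComplexShape.up ℤ)).obj K ≅ (Φ T (S₀ M)).obj K :=
  HomologicalComplex.Hom.isoOfComponents (fun m => @asIso _ _ _ _ _ (isIso_singleComp T M K m)) fun i j (hij : i + 1 = j) => by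
    subst hij
    show ((T.map (singleObjXSelf (ComplexShape.up ℤ) 0 M).inv).app (K.X i) ≫
        HomologicalComplex.ιMapBifunctor (S₀ M) K T (ComplexShape.up ℤ) 0 i i (zero_add i)) ≫
      (HomologicalComplex.mapBifunctor (S₀ M) K T (ComplexShape.up ℤ)).d i (i + 1) =
      (T.obj M).map (K.d i (i + 1)) ≫ (T.map (singleObjXSelf (ComplexShape.up ℤ) 0 M).inv).app (K.X (i + 1)) ≫
        HomologicalComplex.ιMapBifunctor (S₀ M) K T (ComplexShape.up ℤ) 0 (i + 1) (i + 1) (zero_add _)
    rw [NatTrans.naturality_assoc, Category.assoc, HomologicalComplex.mapBifunctor.d_eq, Preadditive.comp_add]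
    erw [HomologicalComplex.mapBifunctor.ι_D₁, HomologicalComplex.mapBifunctor.ι_D₂]
    rw [HomologicalComplex.mapBifunctor.d₁_eq' _ _ _ _ (rfl : (ComplexShape.up ℤ).Rel 0 ((0 : ℤ) + 1)) i (i + 1),
      (isZero_single_obj_X (ComplexShape.up ℤ) 0 M ((0 : ℤ) + 1) (by omega)).eq_of_tgt ((S₀ M).d 0 ((0 : ℤ) + 1)) 0]
    erw [T.map_zero, zero_app, zero_comp]
    erw [smul_zero, zero_add]
    rw [
      HomologicalComplex.mapBifunctor.d₂_eq _ _ _ _ 0 (rfl : (ComplexShape.up ℤ).Rel i (i + 1)) (i + 1) (zero_add _),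
      show ComplexShape.ε₂ (ComplexShape.up ℤ) (ComplexShape.up ℤ) (ComplexShape.up ℤ) (0, i) = 1 from by simp, one_smul]
    rfl

theorem singleIso_natural {M M' : A} (f : M ⟶ M') {K K' : CochainComplex A ℤ} (g : K ⟶ K') :
    (NatTrans.mapHomologicalComplex (T.map f) (ComplexShape.up ℤ)).app K ≫
        ((T.obj M').mapHomologicalComplex (ComplexShape.up ℤ)).map g ≫ (singleIso T M' K').hom =
      (singleIso T M K).hom ≫ mapBifunctorMap ((CochainComplex.singleFunctor A 0).map f) g T (ComplexShape.up ℤ) := by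
  ext m : 1
  show (T.map f).app (K.X m) ≫ (T.obj M').map (g.f m) ≫ singleComp T M' K' m =
    singleComp T M K m ≫ (mapBifunctorMap ((CochainComplex.singleFunctor A 0).map f) g T (ComplexShape.up ℤ)).f m
  unfold singleComp
  erw [Category.assoc, ι_mapBifunctorMap]
  have h : f ≫ (singleObjXSelf (ComplexShape.up ℤ) 0 M').inv =
      (singleObjXSelf (ComplexShape.up ℤ) 0 M).inv ≫ ((CochainComplex.singleFunctor A 0).map f).f 0 := by
    show _ = _ ≫ ((single A (ComplexShape.up ℤ) 0).map f).f 0
    rw [single_map_f_self, Iso.inv_hom_id_assoc]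
  rw [NatTrans.naturality_assoc, ← NatTrans.comp_app_assoc, ← T.map_comp, h]
  erw [T.map_comp, NatTrans.comp_app_assoc, ← NatTrans.naturality_assoc]
  rfl

/-- `Hₙ (M ⊗ P) ≅ H⁻ⁿ (Tot (M ⊗ P))` -/
noncomputable def sideIso (M : A) (P : ChainComplex A ℕ) (n : ℕ) :
    (((T.obj M).mapHomologicalComplex (ComplexShape.down ℕ)).obj P).homology n ≅
      ((Φ T (S₀ M)).obj (P.extend ComplexShape.embeddingDownNat)).homology (-(n : ℤ)) :=
  (extendHomologyIso _ ComplexShape.embeddingDownNat (j := n) (j' := -(n : ℤ)) rfl).symm ≪≫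
    (homologyFunctor A (ComplexShape.up ℤ) (-(n : ℤ))).mapIso ((mapDownIso (T.obj M) P).symm ≪≫
      singleIso T M (P.extend ComplexShape.embeddingDownNat))

theorem sideIso_natural {M M' : A} (f : M ⟶ M') {P P' : ChainComplex A ℕ} (g : P ⟶ P') (n : ℕ) :
    homologyMap ((NatTrans.mapHomologicalComplex (T.map f) (ComplexShape.down ℕ)).app P ≫
        ((T.obj M').mapHomologicalComplex (ComplexShape.down ℕ)).map g) n ≫ (sideIso T M' P' n).hom =
      (sideIso T M P n).hom ≫ homologyMap (mapBifunctorMap ((CochainComplex.singleFunctor A 0).map f)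
        (extendMap g ComplexShape.embeddingDownNat) T (ComplexShape.up ℤ)) (-(n : ℤ)) := by
  have h1 : extendMap ((NatTrans.mapHomologicalComplex (T.map f) (ComplexShape.down ℕ)).app P ≫
        ((T.obj M').mapHomologicalComplex (ComplexShape.down ℕ)).map g) ComplexShape.embeddingDownNat ≫
      (mapDownIso (T.obj M') P').inv = (mapDownIso (T.obj M) P).inv ≫
      ((NatTrans.mapHomologicalComplex (T.map f) (ComplexShape.up ℤ)).app (P.extend ComplexShape.embeddingDownNat) ≫
        ((T.obj M').mapHomologicalComplex (ComplexShape.up ℤ)).map (extendMap g ComplexShape.embeddingDownNat)) := by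
    rw [← cancel_epi (mapDownIso (T.obj M) P).hom, Iso.hom_inv_id_assoc, ← cancel_mono (mapDownIso (T.obj M') P').hom]
    simp only [Category.assoc, Iso.inv_hom_id, Category.comp_id]
    rw [extendMap_comp]
    ext m : 1
    show (mapDownXIso (T.obj M) P _).hom ≫
        extend.mapX ((NatTrans.mapHomologicalComplex (T.map f) (ComplexShape.down ℕ)).app P) _ ≫
        extend.mapX (((T.obj M').mapHomologicalComplex (ComplexShape.down ℕ)).map g) _ =
      (T.map f).app _ ≫ (T.obj M').map (extend.mapX g _) ≫ (mapDownXIso (T.obj M') P' _).hom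
    rw [mapDownXIso_natural, ← reassoc_of% mapDownXIso_nat]
  unfold sideIso
  simp only [Iso.trans_hom, Iso.symm_hom, Functor.mapIso_hom, homologyFunctor_map, homologyMap_comp]
  rw [← cancel_epi (extendHomologyIso (((T.obj M).mapHomologicalComplex (ComplexShape.down ℕ)).obj P)
    ComplexShape.embeddingDownNat (j := n) (j' := -(n : ℤ)) rfl).hom]
  rw [← homologyMap_comp, ← extendHomologyIso_hom_naturality_assoc, Iso.hom_inv_id_assoc]
  simp only [Category.assoc, Iso.hom_inv_id_assoc, ← homologyMap_comp]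
  rw [← Category.assoc, h1, Category.assoc, Category.assoc]
  erw [Iso.hom_inv_id_assoc, ← homologyMap_comp]
  rw [Category.assoc]
  exact congrArg (fun t => homologyMap ((mapDownIso (T.obj M) P).inv ≫ t) (-(n : ℤ)))
    (singleIso_natural T f (extendMap g ComplexShape.embeddingDownNat))

end Groth.Agent.TorBal
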